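import Groth.Agent.KoszBlow.Chart
import Groth.Agent.KoszulLib.Flat
import Groth.Agent.TorCI.RegularQuot
import Groth.Agent.TorCI.LciPair
import Groth.Agent.CMFlat.Quotient
import Groth.Agent.CMFlat.FiberRing
import Groth.Agent.CMChart.Pieces
import Groth.Agent.CMFlat.Localization
import Mathlib

/-!
Blow-up charts of Cohen–Macaulay rings along regular sequences are Cohen–Macaulay.
-/

set_option autoImplicit false
set_option linter.style.haveILetI false
set_option maxSynthPendingDepth 4
set_option backward.isDefEq.respectTransparency false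
universe u

open MvPolynomial RingTheory.Sequence TensorProduct

namespace Groth.Agent.CMBlow

open BlowUpExist KoszBlow
open Wiebe (Acyclic)

theorem isCohenMacaulayRing_mvPolynomial (A : Type u) [CommRing A] [LocCoh.IsCohenMacaulayRing A] (n : ℕ) :
    LocCoh.IsCohenMacaulayRing (MvPolynomial (Fin n) A) := by
  refine CMFlat.isCohenMacaulayRing_of_fibers (A := A) fun p _ Q _ => ?_
  let e : p.Fiber (MvPolynomial (Fin n) A) ≃+* MvPolynomial (Fin n) p.ResidueField :=
    (MvPolynomial.algebraTensorAlgEquiv A p.ResidueField).toRingEquiv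
  haveI : IsRegularRing (p.Fiber (MvPolynomial (Fin n) A)) := IsRegularRing.of_ringEquiv e.symm
  haveI := IsRegularRing.isRegularLocalRing_localization (R := p.Fiber (MvPolynomial (Fin n) A)) Q
  exact CMFlat.isCohenMacaulayLocalRing_of_isRegularLocalRing _

variable {A : Type u} [CommRing A] [LocCoh.IsCohenMacaulayRing A] {I : Ideal A}

theorem cm_chart {n : ℕ} (a : Fin (n + 1) → A) (hI : I = Ideal.span (Set.range a)) (ha : Acyclic a)
    (q : Ideal (HomogeneousLocalization.Away (Rees.deg (reesAlgebra I)) (tt I (a 0) (mem_ideal a hI 0))))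
    [q.IsPrime] : LocCoh.IsCohenMacaulayLocalRing (Localization.AtPrime q) := by
  let P := MvPolynomial (Fin n) A
  haveI : LocCoh.IsCohenMacaulayRing P := isCohenMacaulayRing_mvPolynomial A n
  let M : Ideal P := q.comap (pres a hI)
  haveI : LocCoh.IsCohenMacaulayLocalRing (Localization.AtPrime M) :=
    LocCoh.IsCohenMacaulayRing.isCohenMacaulayLocalRing_localization M
  let g : Fin n → Localization.AtPrime M := algebraMap P (Localization.AtPrime M) ∘ eqn a
  have hg : ∀ i, g i ∈ IsLocalRing.maximalIdeal (Localization.AtPrime M) := fun i =>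
    (IsLocalization.AtPrime.to_map_mem_maximal_iff (Localization.AtPrime M) M (eqn a i)).2 (by
      show pres a hI (eqn a i) ∈ q
      rw [show pres a hI (eqn a i) = 0 from RingHom.mem_ker.1
        ((ker_pres a hI ha).symm ▸ Ideal.subset_span ⟨i, rfl⟩)]
      exact q.zero_mem)
  have hw := TorCI.isWeaklyRegular_of_acyclic hg
    (KoszulLib.acyclic_localization (B := Localization.AtPrime M) (M := M.primeCompl) (acyclic_eqn a ha))
  haveI := CMFlat.isCohenMacaulayLocalRing_quotient_ofList (List.replicate n ⟨(), ()⟩) _ (List.ofFn g)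
    (by simp) hw (fun x hx => by obtain ⟨i, rfl⟩ := List.mem_ofFn.1 hx; exact hg i)
  have hsurj : Function.Surjective (pres a hI) := pres_surjective a hI
  let ψ := Localization.localRingHom M q (pres a hI) rfl
  have hψ : Function.Surjective ψ := RingHom.surjective_localRingHom_of_surjective _ hsurj q
  have hker : RingHom.ker ψ = Ideal.ofList (List.ofFn g) := by
    rw [TorCI.ker_localRingHom (pres a hI) hsurj q, ker_pres a hI ha, Ideal.map_span, ← Set.range_comp, Ideal.ofList]
    congr 1
    ext r
    simp [g, List.mem_ofFn]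
    rfl
  exact CMChart.isCohenMacaulayLocalRing_of_ringEquiv
    ((Ideal.quotEquivOfEq hker.symm).trans (RingHom.quotientKerEquivOfSurjective hψ)) inferInstance

theorem cm_chart' {n : ℕ} (a : Fin (n + 1) → A) (hI : I = Ideal.span (Set.range a)) (ha : Acyclic a) (j : Fin (n + 1))
    (q : Ideal (HomogeneousLocalization.Away (Rees.deg (reesAlgebra I)) (tt I (a j) (mem_ideal a hI j))))
    [q.IsPrime] : LocCoh.IsCohenMacaulayLocalRing (Localization.AtPrime q) := by
  have key : ∀ (b : A) (hb : b ∈ I), b = (a ∘ Equiv.swap 0 j) 0 →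
      ∀ (q : Ideal (HomogeneousLocalization.Away (Rees.deg (reesAlgebra I)) (tt I b hb))) [q.IsPrime],
        LocCoh.IsCohenMacaulayLocalRing (Localization.AtPrime q) := by
    rintro b hb rfl q hq
    exact cm_chart (a ∘ Equiv.swap 0 j)
      (by rw [hI, Set.range_comp, Set.range_eq_univ.2 (Equiv.swap 0 j).surjective, Set.image_univ])
      (KoszulLib.acyclic_comp_equiv _ ha) q
  exact key _ _ (by simp) q

end Groth.Agent.CMBlow
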