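import Groth.Prelude.Def_RegImm
import Groth.Agent.CMBlow.Chart
import Groth.Agent.KoszBlow.Scheme
import Mathlib

/-!
Blow-ups of Cohen–Macaulay schemes in regular ideals are Cohen–Macaulay.
-/

set_option autoImplicit false
set_option linter.style.haveILetI false
set_option maxSynthPendingDepth 4
set_option backward.isDefEq.respectTransparency false
universe u

open CategoryTheory AlgebraicGeometry Limits TopologicalSpace

namespace Groth.Agent.CMBlow

open BlowUpExist KoszBlow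
open Wiebe (Acyclic)

theorem cm_of_openImmersion {X Y : Scheme.{u}} (f : X ⟶ Y) [IsOpenImmersion f] (x : X)
    (h : LocCoh.IsCohenMacaulayLocalRing (X.presheaf.stalk x)) :
    LocCoh.IsCohenMacaulayLocalRing (Y.presheaf.stalk (f x)) :=
  CMChart.isCohenMacaulayLocalRing_of_ringEquiv (asIso (f.stalkMap x)).symm.commRingCatIsoToRingEquiv h

theorem cm_of_openImmersion' {X Y : Scheme.{u}} (f : X ⟶ Y) [IsOpenImmersion f] (x : X)
    (h : LocCoh.IsCohenMacaulayLocalRing (Y.presheaf.stalk (f x))) :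
    LocCoh.IsCohenMacaulayLocalRing (X.presheaf.stalk x) :=
  CMChart.isCohenMacaulayLocalRing_of_ringEquiv (asIso (f.stalkMap x)).commRingCatIsoToRingEquiv h

theorem isCohenMacaulayRing_sections {X : Scheme.{u}} [IsLocallyNoetherian X]
    (hcm : ∀ x : X, LocCoh.IsCohenMacaulayLocalRing (X.presheaf.stalk x)) (U : X.affineOpens) :
    LocCoh.IsCohenMacaulayRing Γ(X, U.1) := by
  haveI := IsLocallyNoetherian.component_noetherian (X := X) U
  refine { isCohenMacaulayLocalRing_localization := fun p hp => ?_ }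
  exact CMChart.isCohenMacaulayLocalRing_of_ringEquiv
    (Spec.stalkIso Γ(X, U.1) ⟨p, hp⟩).commRingCatIsoToRingEquiv
    (cm_of_openImmersion' U.2.fromSpec ⟨p, hp⟩ (hcm _))

theorem cm_structMap {A : Type u} [CommRing A] [LocCoh.IsCohenMacaulayRing A] {I : Ideal A} {m : ℕ} (a : Fin m → A)
    (hI : I = Ideal.span (Set.range a)) (ha : Acyclic a) (y : Proj (Rees.deg (reesAlgebra I))) :
    LocCoh.IsCohenMacaulayLocalRing ((Proj (Rees.deg (reesAlgebra I))).presheaf.stalk y) := by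
  let 𝒰 := (Proj.affineOpenCoverOfIrrelevantLESpan (Rees.deg (reesAlgebra I))
    (fun j : Fin m => tt I (a j) (hI ▸ Ideal.subset_span ⟨j, rfl⟩)) (m := fun _ => 1)
    (fun j => tt_mem I _ _) (fun _ => one_pos) (irrelevant_le_gens a hI)).openCover
  obtain ⟨j, z, rfl⟩ : ∃ (j : Fin m) (z : _), chart I (a j) (hI ▸ Ideal.subset_span ⟨j, rfl⟩) z = y :=
    ⟨_, 𝒰.covers y⟩
  refine cm_of_openImmersion _ z ?_
  obtain ⟨n, rfl⟩ : ∃ n, m = n + 1 := ⟨m - 1, by have := j.2; omega⟩
  exact CMChart.isCohenMacaulayLocalRing_of_ringEquiv (Spec.stalkIso _ z).symm.commRingCatIsoToRingEquiv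
    (cm_chart' a hI ha j z.asIdeal)

theorem cm_spec {A : CommRingCat.{u}} [LocCoh.IsCohenMacaulayRing A] {Y : Scheme.{u}} (b : Y ⟶ Spec A)
    (J : (Spec A).IdealSheafData) (hb : BlowUp.IsBlowUp b J) {m : ℕ} (a : Fin m → A) (ha : Acyclic a)
    (hJ : (J.ideal ⟨⊤, isAffineOpen_top _⟩).map (Scheme.ΓSpecIso A).hom.hom = Ideal.span (Set.range a)) (y : Y) :
    LocCoh.IsCohenMacaulayLocalRing (Y.presheaf.stalk y) := by
  let I : Ideal A := (J.ideal ⟨⊤, isAffineOpen_top _⟩).map (Scheme.ΓSpecIso A).hom.hom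
  have h : J = sheafOf I := by
    refine (Scheme.IdealSheafData.equivOfIsAffine (X := Spec A)).injective ?_
    refine Eq.trans ?_ ((Scheme.IdealSheafData.equivOfIsAffine (X := Spec A)).apply_symm_apply _).symm
    rw [Ideal.map_map, ← CommRingCat.hom_comp]
    erw [Iso.hom_inv_id]
    rw [CommRingCat.hom_id, Ideal.map_id]
    rfl
  have h0 := isBlowUp_affine I
  rw [← h] at h0
  obtain ⟨k, hk, -⟩ := h0.2 _ b hb.1
  obtain ⟨l, hl, -⟩ := hb.2 _ (structMap I) h0.1
  have h1 : k ≫ l = 𝟙 _ := (hb.2 _ b hb.1).unique (by rw [Category.assoc, hl, hk]) (Category.id_comp _)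
  have h2 : l ≫ k = 𝟙 _ := (h0.2 _ _ h0.1).unique (by rw [Category.assoc, hk, hl]) (Category.id_comp _)
  haveI : IsIso k := ⟨l, h1, h2⟩
  exact cm_of_openImmersion' k y (cm_structMap a hJ ha (k y))

theorem exists_acyclic_of_regularIdeal {X : Scheme.{u}} {I : X.IdealSheafData}
    (hI : RegImm.IsRegularIdeal RegImm.Kind.regular I) (x : X) :
    ∃ (U : X.affineOpens) (m : ℕ) (a : Fin m → Γ(X, U.1)), x ∈ U.1 ∧ Acyclic a ∧
      I.ideal U = Ideal.span (Set.range a) := by
  by_cases hx : x ∈ I.support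
  · obtain ⟨U, hxU, rs, hrs, hI'⟩ := hI x hx
    have hrs' : RingTheory.Sequence.IsRegular Γ(X, U.1) rs := hrs
    exact ⟨U, rs.length, rs.get, hxU,
      KoszulLib.acyclic_of_isWeaklyRegular' (by rw [List.ofFn_get]; exact hrs'.toIsWeaklyRegular),
      hI'.trans (by rw [Set.range_list_get])⟩
  · obtain ⟨_, ⟨V, hV, rfl⟩, hxV, hVsub⟩ := X.isBasis_affineOpens.exists_subset_of_mem_open
      (show x ∈ (I.support : Set X)ᶜ from hx) I.support.isClosed.isOpen_compl
    have htop : I.ideal ⟨V, hV⟩ = ⊤ := by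
      have h := map_ideal_fromSpec I ⟨V, hV⟩
      rw [BlowUpLib.comap_eq_top I hV.fromSpec fun y hy => hVsub
        (by rw [← hV.range_fromSpec]; exact ⟨y, rfl⟩) hy] at h
      simpa [Scheme.IdealSheafData.ideal_top, Ideal.map_top] using h.symm
    refine ⟨⟨V, hV⟩, 1, fun _ => 1, hxV, KoszulLib.acyclic_of_span_eq_top ?_, htop.trans ?_⟩
    · simp
    · simp

theorem cm_of_isBlowUp {X T : Scheme.{u}} [IsLocallyNoetherian X]
    (hcm : ∀ x : X, LocCoh.IsCohenMacaulayLocalRing (X.presheaf.stalk x)) {I : X.IdealSheafData}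
    (hI : RegImm.IsRegularIdeal RegImm.Kind.regular I) {π : T ⟶ X} (hπ : BlowUp.IsBlowUp π I) (t : T) :
    LocCoh.IsCohenMacaulayLocalRing (T.presheaf.stalk t) := by
  obtain ⟨U, m, a, hxU, ha, hIU⟩ := exists_acyclic_of_regularIdeal hI (π t)
  haveI := isCohenMacaulayRing_sections hcm U
  obtain ⟨w, hw⟩ : ∃ w, U.2.fromSpec w = π t := by
    have : π t ∈ Set.range U.2.fromSpec := by rw [U.2.range_fromSpec]; exact hxU
    exact this
  obtain ⟨z, -, hz⟩ := Scheme.Pullback.exists_preimage_pullback (f := U.2.fromSpec) (g := π) w t hw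
  rw [← hz]
  exact cm_of_openImmersion _ z (cm_spec _ _ (BlowUpLib.isBlowUp_flat U.2.fromSpec hπ) a ha
    ((map_ideal_fromSpec I U).trans hIU) z)

end Groth.Agent.CMBlow
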